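import Cfsg.Agent.Lib.Goldschmidt.General.Inner
import Cfsg.Agent.Lib.Goldschmidt.ThreePrime.BlockCore
import Cfsg.Agent.Lib.Goldschmidt.Linear
import Cfsg.Agent.Lib.OddOrderTheorem.Basic

/-!
# Components when all 2-elements square into a central subgroup (owner: helper84; section S of `CORNER.md`)

If the squares of the 2-elements of `X` lie in a central elementary subgroup `Z₀`, then the centre of a
component is trivial, or has order two, lies in `Z₀` and contains all involutions of a Sylow subgroup of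
order at least eight of the component.

* `SqCentral`
* `SqCentral.component`
-/

set_option autoImplicit false
set_option linter.unusedSectionVars false
set_option linter.style.haveILetI false

namespace Cfsg.Agent.Goldschmidt.General.Corner.Sixteen

open Cfsg Subgroup Cfsg.Agent.Components
open scoped commutatorElement

universe u

/-- A central elementary subgroup containing the squares of all 2-elements. -/
structure SqCentral {X : Type u} [Group X] (Z₀ : Subgroup X) : Prop where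
  le_center : Z₀ ≤ Subgroup.center X
  exp : ∀ z ∈ Z₀, z * z = 1
  sq : ∀ P : Subgroup X, IsPGroup 2 ↥P → ∀ x ∈ P, x * x ∈ Z₀

theorem SqCentral.component {X : Type u} [Group X] [Finite X] {Z₀ : Subgroup X} (hZ : SqCentral Z₀)
    (hcore : pPrimeCore 2 X = ⊥) (hsec : SecShape X) {L : Subgroup X} (hL : Cfsg.IsComponent L) :
    centerOf L = ⊥ ∨ (centerOf L ≤ Z₀ ∧ Nat.card ↥(centerOf L) = 2 ∧
      ∃ Q : Subgroup X, Q ≤ L ∧ IsPGroup 2 ↥Q ∧ 8 ≤ Nat.card ↥Q ∧ ∀ x ∈ Q, x * x = 1 → x ∈ centerOf L) := by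
  classical
  haveI : Fact (Nat.Prime 2) := ⟨Nat.prime_two⟩
  haveI : IsSimpleGroup (↥L ⧸ Subgroup.center ↥L) := hL.2.2
  set Z := Subgroup.center ↥L with hZdef
  set π := cproj L with hπ
  have hπs : Function.Surjective π := QuotientGroup.mk'_surjective _
  have hker : ∀ y : ↥L, π y = 1 ↔ y ∈ Z := fun y => QuotientGroup.eq_one_iff y
  have hZ2 : IsPGroup 2 ↥Z := isPGroup_center_component hcore hL
  have hsq : ∀ P : Subgroup ↥L, IsPGroup 2 ↥P → ∀ x ∈ P, ((x * x : ↥L) : X) ∈ Z₀ := fun P hP x hx =>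
    hZ.sq (P.map L.subtype) (hP.map L.subtype) x ⟨x, hx, rfl⟩
  have hZ₀Z : ∀ x : ↥L, (x : X) ∈ Z₀ → x ∈ Z := fun x hx =>
    mem_center_iff.2 fun g => Subtype.ext (mem_center_iff.1 (hZ.le_center hx) g)
  -- involutions of the simple quotient form an elementary closed set
  set T' : Set (↥L ⧸ Z) := {x | x * x = 1}
  have hT' : Goldschmidt.Elem T' := by
    refine ⟨⟨by simp [T'], fun g x hx => ?_, fun x hx => ⟨1, by rw [pow_one, pow_two]; exact hx⟩, ?_⟩,
      fun x hx => hx⟩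
    · show g * x * g⁻¹ * (g * x * g⁻¹) = 1
      rw [show g * x * g⁻¹ * (g * x * g⁻¹) = g * (x * x) * g⁻¹ by group, show x * x = 1 from hx,
        mul_one, mul_inv_cancel]
    · intro P hP x hxP y hyP _ _
      have hP' : IsPGroup 2 ↥(P.comap π) := hP.comap_of_ker_isPGroup π (by
        rw [hπ, QuotientGroup.ker_mk']; exact hZ2)
      obtain ⟨x', rfl⟩ := hπs x
      obtain ⟨y', rfl⟩ := hπs y
      show π x' * π y' * (π x' * π y') = 1
      rw [← map_mul, ← map_mul]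
      exact (hker _).2 (hZ₀Z _ (hsq _ hP' _ (mul_mem hxP hyP)))
  have hncomm : ∃ x y : ↥L ⧸ Z, x * y ≠ y * x := by
    by_contra hno
    push Not at hno
    haveI : Group.IsSolvable (↥L ⧸ Z) := Group.isSolvable_of_comm hno
    haveI : Group.IsSolvable ↥Z := Group.isSolvable_of_comm fun a b =>
      Subtype.ext (mem_center_iff.1 b.2 a)
    exact IsQuasisimple.not_isSolvable hL.2 (Group.isSolvable_of_ker_le_range Z.subtype π
      (by rw [hπ, QuotientGroup.ker_mk', range_subtype]))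
  obtain ⟨t, ht⟩ : ∃ t : ↥L ⧸ Z, orderOf t = 2 := by
    refine exists_prime_orderOf_dvd_card' 2 ?_
    by_contra hodd
    obtain ⟨x, y, hxy⟩ := hncomm
    haveI : Group.IsSolvable (↥L ⧸ Z) := OddOrderTheorem.solvable
      (by rw [← Nat.not_even_iff_odd, even_iff_two_dvd]; exact hodd)
    haveI : Group.IsSolvable ↥Z := Group.isSolvable_of_comm fun a b =>
      Subtype.ext (mem_center_iff.1 b.2 a)
    exact IsQuasisimple.not_isSolvable hL.2 (Group.isSolvable_of_ker_le_range Z.subtype π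
      (by rw [hπ, QuotientGroup.ker_mk', range_subtype]))
  obtain ⟨q, hshape⟩ := hsec (↥L ⧸ Z) L π hπs inferInstance hncomm ⟨T', hT', t, by
    show t * t = 1
    rw [← pow_two, ← ht, pow_orderOf_eq_one], fun e => by rw [e, orderOf_one] at ht; omega⟩
  have F := General.shapeFacts hshape
  obtain ⟨Q⟩ : Nonempty (Sylow 2 ↥L) := inferInstance
  have hZQ : Z ≤ (Q : Subgroup ↥L) := fun z hz => by
    have h2 := Q.is_maximal' (IsPGroup.to_sup_of_normal_right Q.isPGroup' hZ2) le_sup_left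
    exact h2 ▸ mem_sup_right hz
  set Qb := Q.mapSurjective hπs with hQb
  have hmem : ∀ y : ↥L, π y ∈ (Qb : Subgroup (↥L ⧸ Z)) → y ∈ (Q : Subgroup ↥L) := by
    rintro y ⟨y', hy', hye⟩
    have h1 : y'⁻¹ * y ∈ Z := (QuotientGroup.eq).1 hye
    simpa using mul_mem hy' (hZQ h1)
  have hQbsq : ∀ x ∈ (Qb : Subgroup (↥L ⧸ Z)), x * x = 1 := by
    rintro _ ⟨x, hx, rfl⟩
    rw [← map_mul]
    exact (hker _).2 (hZ₀Z _ (hsq _ Q.isPGroup' _ hx))
  have hcen : centre (Qb : Subgroup (↥L ⧸ Z)) = (Qb : Subgroup (↥L ⧸ Z)) :=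
    le_antisymm inf_le_left (le_inf le_rfl fun x hx => mem_centralizer_iff.2 fun y hy =>
      congrArg Subtype.val (Linear.comm_of_sq
        (fun z : ↥(Qb : Subgroup (↥L ⧸ Z)) => Subtype.ext (hQbsq z z.2)) ⟨y, hy⟩ ⟨x, hx⟩))
  -- commutators of `Q` are products of squares
  have hcommZ : ∀ x ∈ (Q : Subgroup ↥L), ∀ y ∈ (Q : Subgroup ↥L),
      ⁅x, y⁆ = x * y * (x * y) * (x * x)⁻¹ * (y * y)⁻¹ := by
    intro x hx y hy
    have hc := mem_center_iff.1 (hZ₀Z _ (hsq _ Q.isPGroup' x hx)) y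
    calc ⁅x, y⁆ = x * y * (x * y) * (y⁻¹ * (x * x)⁻¹ * y) * (y * y)⁻¹ := by
          rw [commutatorElement_def]; group
      _ = x * y * (x * y) * (x * x)⁻¹ * (y * y)⁻¹ := by
          congr 2
          calc y⁻¹ * (x * x)⁻¹ * y = ((x * x) * y)⁻¹ * y := by group
            _ = (y * (x * x))⁻¹ * y := by rw [hc]
            _ = (x * x)⁻¹ := by group
  have hder : ∀ K : Subgroup ↥L, (∀ x ∈ (Q : Subgroup ↥L), x * x ∈ K) →
      commutator ↥(Q : Subgroup ↥L) ≤ K.subgroupOf (Q : Subgroup ↥L) := by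
    intro K hK
    rw [_root_.commutator_def, commutator_le]
    intro x _ y _
    show ((⁅x, y⁆ : ↥(Q : Subgroup ↥L)) : ↥L) ∈ K
    rw [show ((⁅x, y⁆ : ↥(Q : Subgroup ↥L)) : ↥L) = ⁅(x : ↥L), (y : ↥L)⁆ from rfl, hcommZ _ x.2 _ y.2]
    exact mul_mem (mul_mem (hK _ (mul_mem x.2 y.2)) (inv_mem (hK _ x.2))) (inv_mem (hK _ y.2))
  have hperf : _root_.commutator ↥L = ⊤ := hL.2.1.commutator_eq_top
  have hZder : ∀ z (hz : z ∈ Z), (⟨z, hZQ hz⟩ : ↥(Q : Subgroup ↥L)) ∈ commutator ↥(Q : Subgroup ↥L) :=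
    fun z hz => ThreePrime.mem_commutator_sylow_of_center hperf Q ⟨z, hZQ hz⟩ hz
  have hZle : ∀ z ∈ Z, (z : X) ∈ Z₀ := fun z hz => by
    have h1 := hder (Z₀.comap L.subtype) (fun x hx => hsq _ Q.isPGroup' x hx) (hZder z hz)
    exact h1
  have hZexp : ∀ z ∈ Z, z * z = 1 := fun z hz => Subtype.ext (hZ.exp _ (hZle z hz))
  -- all squares outside the centre are equal
  obtain ⟨hb, hbN, htor, -, -⟩ := F.torus Qb
  obtain ⟨h, rfl⟩ := hπs hb
  have hQcard : Nat.card ↥(Q : Subgroup ↥L) = Nat.card ↥Z * q := by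
    have h1 := Cores.card_map_mul_ker π (Q : Subgroup ↥L) (by rw [hπ, QuotientGroup.ker_mk']; exact hZQ)
    rw [hπ, QuotientGroup.ker_mk', ← hπ] at h1
    have h2 : Nat.card ↥(Qb : Subgroup (↥L ⧸ Z)) = q := by rw [← hcen]; exact F.card_centre Qb
    rw [← h1, ← h2, mul_comm]
    rfl
  obtain ⟨x₀, hx₀, hx₀Z⟩ : ∃ x ∈ (Q : Subgroup ↥L), x ∉ Z := by
    by_contra! hno
    have h1 := card_le_of_le (show (Q : Subgroup ↥L) ≤ Z from hno)
    rw [hQcard] at h1
    have h2 : 0 < Nat.card ↥Z := Nat.card_pos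
    have := F.four
    nlinarith
  have hconst : ∀ x ∈ (Q : Subgroup ↥L), x ∉ Z → x * x = x₀ * x₀ := by
    intro x hx hxZ
    obtain ⟨k, hk⟩ := htor.trans (π x₀) (hcen.ge ⟨x₀, hx₀, rfl⟩) (π x) (hcen.ge ⟨x, hx, rfl⟩)
      (fun e => hx₀Z ((hker _).1 e)) (fun e => hxZ ((hker _).1 e))
    rw [← map_pow, ← map_inv, ← map_mul, ← map_mul] at hk
    have hz : (h ^ k * x₀ * (h ^ k)⁻¹)⁻¹ * x ∈ Z := QuotientGroup.eq.1 hk
    set z := (h ^ k * x₀ * (h ^ k)⁻¹)⁻¹ * x
    have hxe : x = h ^ k * x₀ * (h ^ k)⁻¹ * z := by rw [mul_inv_cancel_left]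
    have hzc := mem_center_iff.1 hz (h ^ k * x₀ * (h ^ k)⁻¹)
    have hsc := mem_center_iff.1 (hZ₀Z _ (hsq _ Q.isPGroup' x₀ hx₀)) (h ^ k)
    calc x * x = h ^ k * x₀ * (h ^ k)⁻¹ * (z * (h ^ k * x₀ * (h ^ k)⁻¹)) * z := by rw [hxe]; group
      _ = h ^ k * x₀ * (h ^ k)⁻¹ * (h ^ k * x₀ * (h ^ k)⁻¹) * (z * z) := by rw [← hzc]; group
      _ = h ^ k * (x₀ * x₀) * (h ^ k)⁻¹ := by rw [hZexp z hz]; group
      _ = x₀ * x₀ := by rw [hsc, mul_inv_cancel_right]
  set c := x₀ * x₀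
  have hcc : c * c = 1 := Subtype.ext (hZ.exp _ (hsq _ Q.isPGroup' x₀ hx₀))
  have hsqc : ∀ x ∈ (Q : Subgroup ↥L), x * x ∈ zpowers c := fun x hx => by
    by_cases hxZ : x ∈ Z
    · rw [hZexp x hxZ]; exact one_mem _
    · rw [hconst x hx hxZ]; exact mem_zpowers c
  have hZc : Z ≤ zpowers c := fun z hz => hder _ hsqc (hZder z hz)
  by_cases hZ1 : Z = ⊥
  · left
    rw [centerOf, ← hZdef, hZ1, Subgroup.map_bot]
  right
  have hc1 : c ≠ 1 := fun e => hZ1 (le_bot_iff.1 (hZc.trans (by rw [e, zpowers_one_eq_bot])))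
  have hZ2c : Nat.card ↥Z = 2 := by
    have h1 := card_le_of_le hZc
    rw [Nat.card_zpowers, orderOf_eq_prime (p := 2) (by rw [pow_two]; exact hcc) hc1] at h1
    have h2 : Nat.card ↥Z ≠ 1 := fun e => hZ1 (Subgroup.eq_bot_of_card_eq _ e)
    have h3 : 0 < Nat.card ↥Z := Nat.card_pos
    omega
  refine ⟨?_, by rw [centerOf, card_map_of_injective L.subtype_injective, ← hZdef, hZ2c],
    (Q : Subgroup ↥L).map L.subtype, map_subtype_le _, Q.isPGroup'.map _, ?_, ?_⟩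
  · rintro _ ⟨z, hz, rfl⟩
    exact hZle z hz
  · rw [card_map_of_injective L.subtype_injective, hQcard, hZ2c]
    have := F.four
    omega
  · rintro _ ⟨x, hx, rfl⟩ hxx
    by_contra hxZ
    refine hc1 ?_
    rw [← hconst x hx fun e => hxZ ⟨x, e, rfl⟩]
    exact Subtype.ext hxx

end Cfsg.Agent.Goldschmidt.General.Corner.Sixteen
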