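import Cfsg.Agent.Lib.Goldschmidt.General.Corner.Sixteen.Norm
import Cfsg.Agent.Lib.Goldschmidt.General.Corner.Sixteen.Component
import Cfsg.Agent.Lib.PReduced.Local
import Cfsg.Agent.Lib.Components.GenFitting

/-!
# `C(A)` modulo its core has no component (owner: helper84; section S of `CORNER.md`)

The part of the layer in `S` is strongly closed in `G`, so is trivial (product theorem with `A`) or
contains `A`; then two components have different centres and their Sylow subgroups make up that of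
`C(A)`, leaving no involution outside `A`.

* `quot_layer_eq_bot`
-/

set_option autoImplicit false
set_option linter.unusedSectionVars false
set_option linter.style.haveILetI false

namespace Cfsg.Agent.Goldschmidt.General.Corner.Sixteen

open Cfsg Subgroup Cfsg.Agent.Components

universe u

variable {G : Type u} [Group G] [Finite G] {S : Sylow 2 G} {A : Subgroup G}

/-- The centraliser modulo its core. -/
abbrev CBar (A : Subgroup G) : Type u :=
  ↥(centralizer (A : Set G)) ⧸ pPrimeCore 2 ↥(centralizer (A : Set G))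

/-- The projection. -/
abbrev cmk (A : Subgroup G) : ↥(centralizer (A : Set G)) →* CBar A :=
  QuotientGroup.mk' (pPrimeCore 2 ↥(centralizer (A : Set G)))

theorem centralizer_ne_top (h : CornerHyp G S A) : centralizer (A : Set G) ≠ ⊤ := fun e => by
  obtain ⟨a, ha, ha1⟩ := (Subgroup.bot_or_exists_ne_one A).resolve_left h.ctx.ne
  exact h.ctx.centralizer_ne_top ha1 (top_unique (e ▸ fun x hx =>
    mem_centralizer_singleton_iff.2 (mem_centralizer_iff.1 hx a ha).symm))

theorem base_le_centralizer (h : CornerHyp G S A) : A ≤ centralizer (A : Set G) := fun _ hx =>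
  mem_centralizer_iff.2 fun _ hy => h.ctx.comm hy hx

/-- The Sylow subgroup of the quotient. -/
theorem exists_sylow_cbar (h : CornerHyp G S A) : ∃ R : Sylow 2 (CBar A),
    (R : Subgroup (CBar A)) = ((S : Subgroup G).subgroupOf (centralizer (A : Set G))).map (cmk A) :=
  ⟨(S.subtype h.central).mapSurjective (f := cmk A) (QuotientGroup.mk'_surjective _), rfl⟩

/-- An element of the Sylow subgroup is determined by its image. -/
theorem eq_one_of_cmk {x : G} (hxS : x ∈ (S : Subgroup G)) {hx : x ∈ centralizer (A : Set G)}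
    (h : cmk A ⟨x, hx⟩ = 1) : x = 1 := by
  haveI : Fact (Nat.Prime 2) := ⟨Nat.prime_two⟩
  exact congrArg Subtype.val (Coprime.eq_one_of_mem_of_mem (Coprime.coprime_of_isPGroup
    (Cores.coprime_card_pPrimeCore 2) (S.isPGroup'.comap_of_injective _ (subtype_injective _)))
    ((QuotientGroup.eq_one_iff _).1 h) (show (⟨x, hx⟩ : ↥(centralizer (A : Set G))) ∈
      (S : Subgroup G).comap (centralizer (A : Set G)).subtype from hxS))

theorem sqCentral (h : CornerHyp G S A) (hsq : ∀ x ∈ (S : Subgroup G), x * x ∈ A) :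
    SqCentral ((A.subgroupOf (centralizer (A : Set G))).map (cmk A)) := by
  haveI : Fact (Nat.Prime 2) := ⟨Nat.prime_two⟩
  have hc : ∀ z ∈ (A.subgroupOf (centralizer (A : Set G))).map (cmk A), z ∈ Subgroup.center (CBar A) := by
    rintro _ ⟨a, ha, rfl⟩
    refine mem_center_iff.2 fun g => ?_
    obtain ⟨g, rfl⟩ := QuotientGroup.mk'_surjective _ g
    rw [← map_mul, ← map_mul]
    exact congrArg (cmk A) (Subtype.ext (mem_centralizer_iff.1 g.2 (a : G) (mem_subgroupOf.1 ha)).symm)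
  refine ⟨hc, ?_, fun P hP x hx => ?_⟩
  · rintro _ ⟨a, ha, rfl⟩
    rw [← map_mul, show a * a = 1 from Subtype.ext (h.ctx.sq (mem_subgroupOf.1 ha)), map_one]
  obtain ⟨R, hR⟩ := exists_sylow_cbar h
  obtain ⟨Q, hQ⟩ := hP.exists_le_sylow
  obtain ⟨g, hg⟩ := MulAction.exists_smul_eq (CBar A) Q R
  have h1 : g * x * g⁻¹ ∈ (R : Subgroup (CBar A)) := by
    rw [← hg, Sylow.coe_subgroup_smul, Coprime.mem_conj]
    simpa [mul_assoc] using hQ hx
  rw [hR] at h1
  obtain ⟨s, hs, hse⟩ := h1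
  have hA : g * x * g⁻¹ * (g * x * g⁻¹) ∈ (A.subgroupOf (centralizer (A : Set G))).map (cmk A) :=
    ⟨s * s, mem_subgroupOf.2 (hsq _ (mem_subgroupOf.1 hs)), by rw [map_mul, hse]⟩
  have h2 := mem_center_iff.1 (hc _ hA) g⁻¹
  rwa [show x * x = g⁻¹ * (g * x * g⁻¹ * (g * x * g⁻¹)) * g by group, h2, inv_mul_cancel_right]

/-- The preimage of the layer is normalised by `N(A)`. -/
theorem conj_mem_layer {n x : G} (hn : n ∈ normalizer (A : Set G))
    (hx : x ∈ centralizer (A : Set G)) (hxE : cmk A ⟨x, hx⟩ ∈ Cfsg.layer (CBar A)) :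
    ∃ h' : n * x * n⁻¹ ∈ centralizer (A : Set G),
      cmk A ⟨n * x * n⁻¹, h'⟩ ∈ Cfsg.layer (CBar A) := by
  have hMn : n ∈ normalizer (centralizer (A : Set G) : Set G) :=
    PReduced.le_normalizer_centralizer le_rfl hn
  have heq : (centralizer (A : Set G)).map (MulAut.conj n).toMonoidHom = centralizer (A : Set G) := by
    refine eq_of_le_of_card_ge ?_ (card_map_of_injective (MulAut.conj n).injective).ge
    rintro _ ⟨y, hy, rfl⟩
    exact (mem_normalizer_iff.1 hMn y).1 hy
  let α : ↥(centralizer (A : Set G)) ≃* ↥(centralizer (A : Set G)) :=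
    ((centralizer (A : Set G)).equivMapOfInjective _ (MulAut.conj n).injective).trans
      (MulEquiv.subgroupCongr heq)
  have hE := layer_map_equiv (QuotientGroup.congr _ _ α (Cores.pPrimeCore_map_mulEquiv α 2))
  refine ⟨(mem_normalizer_iff.1 hMn x).1 hx, hE.le ⟨_, hxE, ?_⟩⟩
  rfl

/-- `C(A)` modulo its core has no component. -/
theorem quot_layer_eq_bot (h : CornerHyp G S A) (hS : Nat.card ↥(S : Subgroup G) = 64)
    (hsq : ∀ x ∈ (S : Subgroup G), x * x ∈ A) : Cfsg.layer (CBar A) = ⊥ := by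
  classical
  haveI : Fact (Nat.Prime 2) := ⟨Nat.prime_two⟩
  haveI := h.ctx.simple
  set M := centralizer (A : Set G) with hM
  set π := cmk A
  have hcore : pPrimeCore 2 (CBar A) = ⊥ := Cores.pPrimeCore_quotient_self 2
  have hsec : SecShape (CBar A) :=
    (h.ctx.sec M (centralizer_ne_top h)).of_surjective π (QuotientGroup.mk'_surjective _)
  have hZ := sqCentral h hsq
  set Z₀ := (A.subgroupOf M).map π with hZ₀
  obtain ⟨R, hR⟩ := exists_sylow_cbar h
  set E := Cfsg.layer (CBar A) with hE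
  set E' := (E.comap π).map M.subtype with hE'
  set B := (S : Subgroup G) ⊓ E' with hB
  have hmemE : ∀ x, x ∈ E' ↔ ∃ hx : x ∈ M, π ⟨x, hx⟩ ∈ E := fun x =>
    ⟨fun ⟨y, hy, hye⟩ => by subst hye; exact ⟨y.2, hy⟩, fun ⟨hx, hxE⟩ => ⟨⟨x, hx⟩, hxE, rfl⟩⟩
  have hEn : normalizer (A : Set G) ≤ normalizer (E' : Set G) := fun n hn => norm_mem _ fun x hx => by
    obtain ⟨hx, hxE⟩ := (hmemE x).1 hx
    obtain ⟨h', hh⟩ := conj_mem_layer hn hx hxE
    exact (hmemE _).2 ⟨h', hh⟩
  have hBc : IsStronglyClosed B (S : Subgroup G) := by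
    refine ⟨inf_le_left, fun x hx g hg => ⟨hg, ?_⟩⟩
    obtain ⟨n, hn, he⟩ := h.ctx.agree hx.1 hg
    rw [he]
    exact (mem_normalizer_iff.1 (hEn hn) x).1 hx.2
  rcases h.ctx.irred (A ⊓ E') inf_le_left
      ((le_inf le_rfl hEn).trans inf_normalizer_le_normalizer_inf) with hAE | hAE
  · -- the product theorem
    have hAB : A ⊓ B = ⊥ := le_bot_iff.1 ((inf_le_inf_left A inf_le_right).trans hAE.le)
    have hBsq : ∀ b ∈ B, b * b = 1 := fun b hb =>
      (Subgroup.eq_bot_iff_forall _).1 hAB _ ⟨hsq b hb.1, mul_mem hb hb⟩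
    have hTB := elem_classSet S hBc hBsq
    have hpair : ClosedPair.ClosedPair (classSet A) (classSet B) := by
      refine ⟨h.ctx.elemT.closed, hTB.closed, ?_, ?_⟩
      · intro P hP x hx y hy hxA _
        obtain ⟨Q, hQ⟩ := hP.exists_le_sylow
        obtain ⟨g, hg⟩ := MulAction.exists_smul_eq G Q S
        have hm : ∀ z ∈ P, g * z * g⁻¹ ∈ (S : Subgroup G) := fun z hz => by
          rw [← hg, Sylow.coe_subgroup_smul, Coprime.mem_conj]
          simpa [mul_assoc] using hQ hz
        have h1 : (g * x * g⁻¹) * (g * y * g⁻¹) = (g * y * g⁻¹) * (g * x * g⁻¹) :=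
          mem_centralizer_iff.1 (h.central (hm y hy)) _
            ((mem_classSet_iff h.ctx.closed (hm x hx)).1 (h.ctx.elemT.closed.conj g x hxA))
        have h2 : g * (x * y) * g⁻¹ = g * (y * x) * g⁻¹ := by
          rw [show g * (x * y) * g⁻¹ = (g * x * g⁻¹) * (g * y * g⁻¹) by group, h1]
          group
        exact mul_left_cancel (mul_right_cancel h2)
      · rintro x ⟨g, hg⟩ hxB
        have h2 := (mem_classSet_iff hBc (h.ctx.le hg)).1 (hTB.closed.conj g x hxB)
        exact conj_eq_one_iff.1 ((Subgroup.eq_bot_iff_forall _).1 hAB _ ⟨hg, h2⟩)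
    have hB1 : B = ⊥ := by
      rw [eq_bot_iff]
      intro b hb
      rw [← h.ctx.center_eq_bot]
      have htop : normalClosure (A : Set G) = ⊤ :=
        ((normalClosure_normal (s := (A : Set G))).eq_bot_or_eq_top).resolve_left fun e =>
          h.ctx.ne (le_bot_iff.1 (e ▸ subset_normalClosure))
      have hle : normalClosure (A : Set G) ≤ centralizer ({b} : Set G) := by
        rw [normalClosure, closure_le]
        intro y hy
        obtain ⟨a, ha, hay⟩ := Group.mem_conjugatesOfSet_iff.1 hy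
        obtain ⟨g, rfl⟩ := isConj_iff.1 hay
        exact mem_centralizer_singleton_iff.2
          (ClosedPair.commute_of_core_eq_bot h.ctx.core_eq_bot hpair _
            (h.ctx.elemT.closed.conj g a (mem_classSet_of_mem ha)) b (mem_classSet_of_mem hb))
      rw [htop] at hle
      exact mem_center_iff.2 fun g => mem_centralizer_singleton_iff.1 (hle (mem_top g))
    haveI : E.Normal := layer_normal
    obtain ⟨P, hP⟩ := PReduced.exists_sylow_inf R (C := E) (by rw [normalizer_eq_top]; exact le_top)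
    have hP1 : (P : Subgroup ↥E) = ⊥ := by
      rw [hP, Subgroup.eq_bot_iff_forall]
      intro z hz
      obtain ⟨s, hs, hse⟩ := hR.le (mem_subgroupOf.1 hz)
      have hsB : (s : G) ∈ B := ⟨mem_subgroupOf.1 hs, (hmemE _).2 ⟨s.2, hse ▸ z.2⟩⟩
      have hs1 : s = 1 := Subtype.ext ((Subgroup.eq_bot_iff_forall _).1 hB1 _ hsB)
      exact Subtype.ext (by rw [← hse, hs1, map_one]; rfl)
    have hodd : Odd (Nat.card ↥E) := by
      have h1 := P.not_dvd_index
      rw [hP1, index_bot] at h1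
      rwa [← Nat.not_even_iff_odd, even_iff_two_dvd]
    exact layer_eq_bot_iff.2 fun K hK => IsComponent.not_le_of_isSolvable (H := E) hK
      (OddOrderTheorem.solvable hodd) (IsComponent.le_layer hK)
  -- `A` lies in the centre of the layer
  exfalso
  have hAE' : A ≤ E' := hAE ▸ inf_le_right
  have hZ₀card : Nat.card ↥Z₀ = 4 := by
    have hinj : Function.Injective (π.comp (Subgroup.inclusion (base_le_centralizer h))) := by
      rw [injective_iff_map_eq_one]
      exact fun a ha => Subtype.ext (eq_one_of_cmk (S := S) (h.ctx.le a.2) ha)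
    rw [← h.four, Nat.card_congr (MonoidHom.ofInjective hinj).toEquiv, MonoidHom.range_comp,
      Subgroup.inclusion_range]
  have hZ₀E : Z₀ ≤ ⨆ L : {K : Subgroup (CBar A) // Cfsg.IsComponent K}, centerOf (L : Subgroup (CBar A)) := by
    rw [← center_layer_eq, center_map_subtype]
    intro z hz
    obtain ⟨a, ha, rfl⟩ := hz
    obtain ⟨ha', haE⟩ := (hmemE _).1 (hAE' (mem_subgroupOf.1 ha))
    exact ⟨haE, mem_centralizer_iff.2 fun e _ => mem_center_iff.1 (hZ.le_center ⟨a, ha, rfl⟩) e⟩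
  obtain ⟨L₁, hL₁, hne₁⟩ : ∃ L, Cfsg.IsComponent L ∧ centerOf L ≠ ⊥ := by
    by_contra! hno
    have h1 := card_le_of_le (hZ₀E.trans (iSup_le fun L => (hno _ L.2).le : _ ≤ (⊥ : Subgroup (CBar A))))
    rw [card_bot] at h1
    omega
  obtain ⟨-, hZ1card, Q₁, hQ₁L, hQ₁2, hQ₁8, hQ₁i⟩ := (hZ.component hcore hsec hL₁).resolve_left hne₁
  obtain ⟨L₂, hL₂, hne₂, hne12⟩ : ∃ L, Cfsg.IsComponent L ∧ centerOf L ≠ ⊥ ∧ centerOf L ≠ centerOf L₁ := by
    by_contra! hno
    have h1 := card_le_of_le (hZ₀E.trans (iSup_le fun L => ?_ : _ ≤ centerOf L₁))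
    · omega
    · by_cases e : centerOf (L : Subgroup (CBar A)) = ⊥
      · rw [e]; exact bot_le
      · exact (hno _ L.2 e).le
  obtain ⟨hZ1le, -⟩ := (hZ.component hcore hsec hL₁).resolve_left hne₁
  obtain ⟨hZ2le, hZ2card, Q₂, hQ₂L, hQ₂2, hQ₂8, hQ₂i⟩ := (hZ.component hcore hsec hL₂).resolve_left hne₂
  have hLne : L₁ ≠ L₂ := fun e => hne12 (by subst e; rfl)
  have hcc : L₁ ≤ centralizer (L₂ : Set (CBar A)) :=
    commutator_eq_bot_iff_le_centralizer.1 (IsComponent.commutator_eq_bot hL₁ hL₂ hLne)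
  have hinf : ∀ z ∈ L₁, z ∈ L₂ → z = 1 := by
    intro z hz1 hz2
    have h1 : z ∈ centerOf L₁ ⊓ centerOf L₂ :=
      ⟨mem_centerOf.2 ⟨hz1, fun k hk => (mem_centralizer_iff.1 (hcc hk) z hz2).symm⟩,
        mem_centerOf.2 ⟨hz2, fun k hk => mem_centralizer_iff.1 (hcc hz1) k hk⟩⟩
    have h2 : centerOf L₁ ⊓ centerOf L₂ = ⊥ := by
      refine eq_bot_of_card_eq _ ?_
      rcases (Nat.dvd_prime Nat.prime_two).1
        (hZ1card ▸ card_dvd_of_le (inf_le_left (a := centerOf L₁) (b := centerOf L₂))) with e | e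
      · exact e
      · exact absurd ((eq_of_le_of_card_ge inf_le_right (by rw [e, hZ2card])).symm.trans
          (eq_of_le_of_card_ge inf_le_left (by rw [e, hZ1card]))) hne12
    exact (Subgroup.eq_bot_iff_forall _).1 h2 z h1
  have hn12 : Q₁ ≤ normalizer (Q₂ : Set (CBar A)) := fun x hx => centralizer_le_normalizer _
    (centralizer_le (SetLike.coe_subset_coe.2 hQ₂L) (hcc (hQ₁L hx)))
  have h64 : 64 ≤ Nat.card ↥(Q₂ ⊔ Q₁ : Subgroup (CBar A)) := by
    have h1 := PLocal.card_sup_mul_card_inf (H := Q₂) (K := Q₁) hn12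
    rw [(Subgroup.eq_bot_iff_forall (Q₂ ⊓ Q₁)).2 fun z hz => hinf z (hQ₁L hz.2) (hQ₂L hz.1), card_bot,
      mul_one] at h1
    rw [h1]
    exact (Nat.mul_le_mul hQ₂8 hQ₁8 : 8 * 8 ≤ _)
  obtain ⟨R', hR'⟩ := (IsPGroup.to_sup_of_normal_right' hQ₁2 hQ₂2 hn12).exists_le_sylow
  obtain ⟨g, hg⟩ := MulAction.exists_smul_eq (CBar A) R R'
  have hR'card : Nat.card ↥(R' : Subgroup (CBar A)) ≤ 64 := by
    rw [R'.card_eq_multiplicity, ← R.card_eq_multiplicity, hR, ← hS,
      ← Cores.card_subgroupOf h.central]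
    exact Nat.le_of_dvd Nat.card_pos (Subgroup.card_map_dvd _ _)
  have hR'eq : (Q₁ ⊔ Q₂ : Subgroup (CBar A)) = (R' : Subgroup (CBar A)) :=
    eq_of_le_of_card_ge hR' (by rw [sup_comm]; omega)
  obtain ⟨e, heS, hee, heA⟩ := h.outside
  set x := g * π ⟨e, h.central heS⟩ * g⁻¹ with hx
  have hxx : x * x = 1 := by
    rw [hx, show g * π ⟨e, h.central heS⟩ * g⁻¹ * (g * π ⟨e, h.central heS⟩ * g⁻¹) =
      g * (π ⟨e, h.central heS⟩ * π ⟨e, h.central heS⟩) * g⁻¹ by group, ← map_mul,
      show (⟨e, h.central heS⟩ * ⟨e, h.central heS⟩ : ↥M) = 1 from Subtype.ext hee, map_one, mul_one,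
      mul_inv_cancel]
  have hxR : x ∈ Q₁ ⊔ Q₂ := by
    rw [hR'eq, ← hg, Sylow.coe_subgroup_smul, Coprime.mem_conj]
    rw [hx, show g⁻¹ * (g * π ⟨e, h.central heS⟩ * g⁻¹) * g = π ⟨e, h.central heS⟩ by group]
    exact hR.ge ⟨⟨e, h.central heS⟩, heS, rfl⟩
  rw [← SetLike.mem_coe, coe_mul_of_left_le_normalizer_right Q₁ Q₂ hn12] at hxR
  obtain ⟨u, hu, w, hw, huw⟩ := hxR
  have hc : Commute u w := (mem_centralizer_iff.1 (hcc (hQ₁L hu)) w (hQ₂L hw)).symm
  have h1 : u * u * (w * w) = 1 := by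
    rw [← hxx, ← huw]
    calc u * u * (w * w) = u * (u * w) * w := by group
      _ = u * (w * u) * w := by rw [hc.eq]
      _ = u * w * (u * w) := by group
  have huu : u * u = 1 := hinf _ (hQ₁L (mul_mem hu hu)) (by
    rw [eq_inv_of_mul_eq_one_left h1]; exact inv_mem (hQ₂L (mul_mem hw hw)))
  have hww : w * w = 1 := by rwa [huu, one_mul] at h1
  have hxZ : x ∈ Z₀ := huw ▸ mul_mem (hZ1le (hQ₁i u hu huu)) (hZ2le (hQ₂i w hw hww))
  have hxc := mem_center_iff.1 (hZ.le_center hxZ) g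
  have hx' : x = π ⟨e, h.central heS⟩ := by
    have h2 : g * x = g * π ⟨e, h.central heS⟩ := by
      rw [hxc, hx]; group
    exact mul_left_cancel h2
  obtain ⟨a, ha, hae⟩ := hx' ▸ hxZ
  refine heA ?_
  have h3 : (a : G)⁻¹ * e = 1 := eq_one_of_cmk (S := S)
    (mul_mem (inv_mem (h.ctx.le (mem_subgroupOf.1 ha))) heS) (hx := mul_mem (inv_mem a.2) (h.central heS))
    (QuotientGroup.eq.1 hae |> (QuotientGroup.eq_one_iff _).2)
  exact (inv_mul_eq_one.1 h3) ▸ mem_subgroupOf.1 ha

end Cfsg.Agent.Goldschmidt.General.Corner.Sixteen
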