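import Cfsg.Agent.Lib.Goldschmidt.General.Corner.Defs
import Cfsg.Agent.Lib.Goldschmidt.General.Corner.SwapTransfer
import Cfsg.Agent.Lib.PLocal.Basic
import Cfsg.Agent.Lib.Goldschmidt.Linear

/-!
# `|T| = 16`: the Sylow subgroup normalises `T` (owner: helper84; section S of `CORNER.md`)

`N = N_S(T)` has order 64 and its involutions lie in `T` and at most one further elementary subgroup `E`
of order 16 over `A`.  An element of `S` normalising `N` and moving `T` would swap `T` and `E`; then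
`|S| = 128` and `SwapTransfer` gives a subgroup of index two in `N(A)`.

* `Second` : a further elementary subgroup of order 16
* `sylow_le_normalizer`, `card_sylow` : `S` normalises `T` and has order 64
-/

set_option autoImplicit false
set_option linter.unusedSectionVars false
set_option linter.style.haveILetI false

namespace Cfsg.Agent.Goldschmidt.General.Corner.Sixteen

open Cfsg Subgroup

universe u

variable {G : Type u} [Group G] [Finite G]

/-- An elementary subgroup of order 16 of `N` over `A`. -/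
structure Second (A N E : Subgroup G) : Prop where
  base : A ≤ E
  le : E ≤ N
  card : Nat.card ↥E = 16
  sq : ∀ x ∈ E, x * x = 1

variable {S : Sylow 2 G} {A T : Subgroup G}

/-- The normaliser of `T` in `S`. -/
abbrev normT (S : Sylow 2 G) (T : Subgroup G) : Subgroup G :=
  (S : Subgroup G) ⊓ normalizer (T : Set G)

theorem base_le_normT (h : CornerHyp G S A) (hM : MaxData S A T) : A ≤ normT S T :=
  le_inf h.ctx.le (hM.base.trans le_normalizer)

theorem Second.top (hM : MaxData S A T) (h16 : Nat.card ↥T = 16) : Second A (normT S T) T :=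
  ⟨hM.base, le_inf hM.le le_normalizer, h16, fun x hx => by rw [← pow_two]; exact hM.elem.2 x hx⟩

/-- Two of them meet in `A` and are made of all involutions of their product. -/
theorem Second.cent_le (hM : MaxData S A T) {E : Subgroup G} (hE : Second A (normT S T) E) {r : G}
    (hr : r ∈ E) (hrT : r ∈ T) (hrA : r ∉ A) : E ≤ T := by
  intro x hx
  rw [← hM.self r hrT hrA]
  refine ⟨(hE.le hx).1, mem_centralizer_singleton_iff.2 ?_⟩
  exact congrArg Subtype.val (Linear.comm_of_sq (fun z : ↥E => Subtype.ext (hE.sq z z.2)) ⟨x, hx⟩ ⟨r, hr⟩)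

variable {E : Subgroup G}

theorem Second.inf_eq (hM : MaxData S A T) (h16 : Nat.card ↥T = 16) (hE : Second A (normT S T) E)
    (hne : E ≠ T) : E ⊓ T = A := by
  refine le_antisymm (fun r hr => ?_) (le_inf hE.base hM.base)
  by_contra hrA
  exact hne (eq_of_le_of_card_ge (Second.cent_le hM hE hr.1 hr.2 hrA) (by rw [h16, hE.card]))

theorem Second.decomp (h : CornerHyp G S A) (hM : MaxData S A T) (h16 : Nat.card ↥T = 16)
    (hE : Second A (normT S T) E) (hne : E ≠ T) {x : G} (hx : x ∈ normT S T) :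
    ∃ e ∈ E, ∃ t ∈ T, e * t = x := by
  have hn : E ≤ normalizer (T : Set G) := hE.le.trans inf_le_right
  have h1 := PLocal.card_sup_mul_card_inf (H := T) (K := E) hn
  rw [inf_comm, Second.inf_eq hM h16 hE hne, h.four, h16, hE.card] at h1
  have h2 : Nat.card ↥(T ⊔ E : Subgroup G) = Nat.card ↥(normT S T) := by
    rw [hM.card_norm, h16]; omega
  have h3 : T ⊔ E = normT S T := eq_of_le_of_card_ge
    (sup_le (le_inf hM.le le_normalizer) hE.le) h2.ge
  rw [← h3, sup_comm, ← SetLike.mem_coe, coe_mul_of_left_le_normalizer_right E T hn] at hx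
  obtain ⟨e, he, t, ht, het⟩ := hx
  exact ⟨e, he, t, ht, het⟩

theorem Second.involution (h : CornerHyp G S A) (hM : MaxData S A T) (h16 : Nat.card ↥T = 16)
    (hE : Second A (normT S T) E) (hne : E ≠ T) {x : G} (hx : x ∈ normT S T) (hxx : x * x = 1) :
    x ∈ E ∨ x ∈ T := by
  obtain ⟨e, he, t, ht, rfl⟩ := hE.decomp h hM h16 hne hx
  by_cases htA : t ∈ A
  · exact Or.inl (mul_mem he (hE.base htA))
  right
  refine mul_mem ?_ ht
  rw [← hM.self t ht htA]
  refine ⟨(hE.le he).1, mem_centralizer_singleton_iff.2 ?_⟩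
  have he1 : e⁻¹ = e := inv_eq_of_mul_eq_one_right (hE.sq e he)
  have ht1 : t⁻¹ = t := inv_eq_of_mul_eq_one_right (by rw [← pow_two]; exact hM.elem.2 t ht)
  have h1 : e * t = t⁻¹ * e⁻¹ := by
    rw [← mul_inv_rev]
    exact eq_inv_of_mul_eq_one_left hxx
  rwa [he1, ht1] at h1

/-- There are at most two of them. -/
theorem Second.unique (h : CornerHyp G S A) (hM : MaxData S A T) (h16 : Nat.card ↥T = 16)
    (hE : Second A (normT S T) E) (hne : E ≠ T) {E' : Subgroup G} (hE' : Second A (normT S T) E')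
    (hne' : E' ≠ T) : E' = E := by
  refine eq_of_le_of_card_ge (fun x hx => ?_) (by rw [hE.card, hE'.card])
  rcases hE.involution h hM h16 hne (hE'.le hx) (hE'.sq x hx) with h1 | h1
  · exact h1
  · exact hE.base ((Second.inf_eq hM h16 hE' hne').le ⟨hx, h1⟩)

theorem second_conj (h : CornerHyp G S A) {s : G}
    (hs : s ∈ (S : Subgroup G) ⊓ normalizer ((normT S T : Subgroup G) : Set G))
    (hE : Second A (normT S T) E) : Second A (normT S T) (E.map (MulAut.conj s).toMonoidHom) where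
  base a ha := ⟨a, hE.base ha, by
    simp only [MulEquiv.coe_toMonoidHom, MulAut.conj_apply]
    rw [← mem_centralizer_iff.1 (h.central hs.1) a ha, mul_inv_cancel_right]⟩
  le := by
    rintro _ ⟨x, hx, rfl⟩
    exact (mem_normalizer_iff.1 hs.2 x).1 (hE.le hx)
  card := by rw [card_map_of_injective (MulAut.conj s).injective, hE.card]
  sq := by
    rintro _ ⟨x, hx, rfl⟩
    rw [← map_mul, hE.sq x hx, map_one]

theorem mem_normalizer_of_map {s : G} (h : T.map (MulAut.conj s).toMonoidHom = T) :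
    s ∈ normalizer (T : Set G) :=
  norm_mem T fun x hx => h.le ⟨x, hx, rfl⟩

/-- An element moving `T` swaps it with `E`. -/
theorem Second.swap (h : CornerHyp G S A) (hM : MaxData S A T) (h16 : Nat.card ↥T = 16)
    (hE : Second A (normT S T) E) (hne : E ≠ T) {s : G}
    (hs : s ∈ (S : Subgroup G) ⊓ normalizer ((normT S T : Subgroup G) : Set G))
    (hsN : s ∉ normT S T) :
    T.map (MulAut.conj s).toMonoidHom = E ∧ E.map (MulAut.conj s).toMonoidHom = T := by
  have h1 : T.map (MulAut.conj s).toMonoidHom ≠ T := fun e => hsN ⟨hs.1, mem_normalizer_of_map e⟩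
  have hTE := hE.unique h hM h16 hne (second_conj h hs (Second.top hM h16)) h1
  refine ⟨hTE, ?_⟩
  by_contra hne2
  have hEE := hE.unique h hM h16 hne (second_conj h hs hE) hne2
  exact hne (map_injective (MulAut.conj s).injective (hTE.trans hEE.symm)).symm

/-- Without a swap `N` is the whole Sylow subgroup. -/
theorem sylow_le_of_norm (hself : ∀ s ∈ (S : Subgroup G) ⊓ normalizer ((normT S T : Subgroup G) : Set G),
    s ∈ normT S T) : (S : Subgroup G) ≤ normT S T := by
  haveI : Fact (Nat.Prime 2) := ⟨Nat.prime_two⟩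
  by_contra hno
  haveI : Group.IsNilpotent ↥(S : Subgroup G) := S.isPGroup'.isNilpotent
  set H := (normT S T).subgroupOf (S : Subgroup G)
  have hlt : H < ⊤ := lt_top_iff_ne_top.2 fun e => hno (subgroupOf_eq_top.1 e)
  have h1 := normalizerCondition_of_isNilpotent H hlt
  obtain ⟨x, hx, hxH⟩ := SetLike.exists_of_lt h1
  refine hxH (hself x ⟨x.2, norm_mem _ fun y hy => ?_⟩)
  exact mem_subgroupOf.1 ((mem_normalizer_iff.1 hx ⟨y, hy.1⟩).1 (mem_subgroupOf.2 hy))

theorem mul_mem_normT_of_swap (h : CornerHyp G S A) (hM : MaxData S A T) (h16 : Nat.card ↥T = 16)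
    (hE : Second A (normT S T) E) (hne : E ≠ T) {s s' : G}
    (hs : s ∈ (S : Subgroup G) ⊓ normalizer ((normT S T : Subgroup G) : Set G))
    (hs' : s' ∈ (S : Subgroup G) ⊓ normalizer ((normT S T : Subgroup G) : Set G))
    (hsN : s ∉ normT S T) (hsN' : s' ∉ normT S T) : s * s' ∈ normT S T := by
  refine ⟨mul_mem hs.1 hs'.1, mem_normalizer_of_map ?_⟩
  rw [map_mul]
  show T.map ((MulAut.conj s).toMonoidHom.comp (MulAut.conj s').toMonoidHom) = T
  rw [← map_map, (hE.swap h hM h16 hne hs' hsN').1, (hE.swap h hM h16 hne hs hsN).2]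

/-! ### In `N(A)/A` -/

section Quot

variable (A)

/-- The image in `N(A)/A`. -/
abbrev img (H : Subgroup G) :
    Subgroup (↥(normalizer (A : Set G)) ⧸ A.subgroupOf (normalizer (A : Set G))) :=
  (H.subgroupOf (normalizer (A : Set G))).map (QuotientGroup.mk' (A.subgroupOf (normalizer (A : Set G))))

variable {A}

theorem mem_img {H : Subgroup G} (hAH : A ≤ H) (x : ↥(normalizer (A : Set G))) :
    QuotientGroup.mk' (A.subgroupOf (normalizer (A : Set G))) x ∈ img A H ↔ (x : G) ∈ H := by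
  refine ⟨?_, fun hx => ⟨x, hx, rfl⟩⟩
  rintro ⟨y, hy, hye⟩
  have h1 : y⁻¹ * x ∈ A.subgroupOf (normalizer (A : Set G)) := QuotientGroup.eq.1 hye
  have h2 := H.mul_mem (mem_subgroupOf.1 hy) (hAH (mem_subgroupOf.1 h1))
  simpa using h2

theorem exists_of_mem_img {H : Subgroup G}
    {z : ↥(normalizer (A : Set G)) ⧸ A.subgroupOf (normalizer (A : Set G))} (hz : z ∈ img A H) :
    ∃ x : ↥(normalizer (A : Set G)), (x : G) ∈ H ∧
      QuotientGroup.mk' (A.subgroupOf (normalizer (A : Set G))) x = z := by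
  obtain ⟨x, hx, hxe⟩ := hz
  exact ⟨x, hx, hxe⟩

theorem card_img {H : Subgroup G} (hAH : A ≤ H) (hH : H ≤ normalizer (A : Set G)) :
    Nat.card ↥(img A H) * Nat.card ↥A = Nat.card ↥H := by
  have h1 := Cores.card_map_mul_ker (QuotientGroup.mk' (A.subgroupOf (normalizer (A : Set G))))
    (H.subgroupOf (normalizer (A : Set G))) (by
      rw [QuotientGroup.ker_mk']
      exact fun x hx => hAH (mem_subgroupOf.1 hx))
  rwa [QuotientGroup.ker_mk', Cores.card_subgroupOf le_normalizer, Cores.card_subgroupOf hH] at h1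

end Quot

theorem sylow_le_normalizer (h : CornerHyp G S A) (hM : MaxData S A T) (h16 : Nat.card ↥T = 16) :
    (S : Subgroup G) ≤ normalizer (T : Set G) := by
  haveI : Fact (Nat.Prime 2) := ⟨Nat.prime_two⟩
  suffices hle : (S : Subgroup G) ≤ normT S T from hle.trans inf_le_right
  refine sylow_le_of_norm fun s₀ hs₀ => ?_
  by_contra hs₀N
  set N := normT S T with hN
  set E := T.map (MulAut.conj s₀).toMonoidHom with hEdef
  have hE : Second A N E := second_conj h hs₀ (Second.top hM h16)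
  have hne : E ≠ T := fun e => hs₀N ⟨hs₀.1, mem_normalizer_of_map e⟩
  set W₁ := (S : Subgroup G) ⊓ normalizer (N : Set G) with hW₁
  have hNW : N ≤ W₁ := le_inf inf_le_left le_normalizer
  have hAN : A ≤ N := base_le_normT h hM
  have hSA := h.ctx.sylow_le_normalizer
  have hNA : N ≤ normalizer (A : Set G) := inf_le_left.trans hSA
  have hW₁A : W₁ ≤ normalizer (A : Set G) := inf_le_left.trans hSA
  have hNcard : Nat.card ↥N = 64 := by rw [hM.card_norm, h16]
  have hW₁card : Nat.card ↥W₁ = 128 := by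
    have h2 : (N.subgroupOf W₁).index = 2 := index_eq_two_iff.2 ⟨⟨s₀, hs₀⟩, fun b => by
      rw [mem_subgroupOf, mem_subgroupOf]
      show Xor ((b : G) * s₀ ∈ N) ((b : G) ∈ N)
      by_cases hb : (b : G) ∈ N
      · exact Or.inr ⟨hb, fun hm => hs₀N (by simpa using mul_mem (inv_mem hb) hm)⟩
      · exact Or.inl ⟨mul_mem_normT_of_swap h hM h16 hE hne b.2 hs₀ hb hs₀N, hb⟩⟩
    rw [← (N.subgroupOf W₁).card_mul_index, h2, Cores.card_subgroupOf hNW, hNcard]
  set NA := normalizer (A : Set G)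
  haveI : (A.subgroupOf NA).Normal := normal_in_normalizer
  set π := QuotientGroup.mk' (A.subgroupOf NA) with hπ
  -- `C = N/A` is elementary
  have hC16 : Nat.card ↥(img A N) = 16 := by
    have h1 := card_img hAN hNA
    rw [h.four, hNcard] at h1
    omega
  have hCsq : ∀ z ∈ img A N, z * z = 1 := by
    intro z hz
    obtain ⟨x, hx, rfl⟩ := exists_of_mem_img hz
    rw [← map_mul]
    exact (QuotientGroup.eq_one_iff _).2 (mem_subgroupOf.2 (hM.sq x hx))
  have hCcomm : ∀ u ∈ img A N, ∀ v ∈ img A N, u * v = v * u := fun u hu v hv =>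
    congrArg Subtype.val (Linear.comm_of_sq (fun z : ↥(img A N) => Subtype.ext (hCsq z z.2)) ⟨u, hu⟩ ⟨v, hv⟩)
  have hT4 : Nat.card ↥(img A T) = 4 := by
    have h1 := card_img hM.base (hM.le.trans hSA)
    rw [h.four, h16] at h1
    omega
  -- fixed points of the elements moving `T`
  have hfix : ∀ w : ↥NA, (w : G) ∈ W₁ → (w : G) ∉ N →
      Nat.card ↥(img A N ⊓ centralizer ({π w} : Set (↥NA ⧸ A.subgroupOf NA)) : Subgroup _) = 4 := by
    intro w hwW hwN
    obtain ⟨hwT, hwE⟩ := hE.swap h hM h16 hne hwW hwN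
    have htoE : ∀ t ∈ T, (w : G) * t * (w : G)⁻¹ ∈ E := fun t ht => hwT ▸ ⟨t, ht, rfl⟩
    have htoT : ∀ e ∈ E, (w : G) * e * (w : G)⁻¹ ∈ T := fun e he => hwE ▸ ⟨e, he, rfl⟩
    set c : ↥(img A T) → ↥NA ⧸ A.subgroupOf NA := fun u => u.1 * (π w * u.1 * (π w)⁻¹) with hc
    have hTN : T ≤ N := le_inf hM.le le_normalizer
    have hconjT : ∀ u ∈ img A T, π w * u * (π w)⁻¹ ∈ img A E := by
      intro u hu
      obtain ⟨x, hx, rfl⟩ := exists_of_mem_img hu
      exact ⟨w * x * w⁻¹, mem_subgroupOf.2 (htoE x hx), by rw [map_mul, map_mul, map_inv]⟩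
    have hEinT : ∀ u ∈ img A E, u ∈ img A T → u = 1 := by
      intro u hu hu'
      obtain ⟨x, hx, rfl⟩ := exists_of_mem_img hu
      exact (QuotientGroup.eq_one_iff _).2 (mem_subgroupOf.2
        ((Second.inf_eq hM h16 hE hne).le ⟨hx, (mem_img hM.base x).1 hu'⟩))
    have hTC : img A T ≤ img A N := map_mono fun x hx => hTN hx
    have hEC : img A E ≤ img A N := map_mono fun x hx => hE.le hx
    have hw2 : π w * π w ∈ img A N := by
      rw [← map_mul]
      exact ⟨w * w, mem_subgroupOf.2 (mul_mem_normT_of_swap h hM h16 hE hne hwW hwW hwN hwN), rfl⟩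
    have hmem : ∀ u, c u ∈ img A N ⊓ centralizer ({π w} : Set (↥NA ⧸ A.subgroupOf NA)) := by
      intro u
      refine ⟨mul_mem (hTC u.2) (hEC (hconjT _ u.2)), mem_centralizer_singleton_iff.2 ?_⟩
      have h1 : π w * (π w * u.1 * (π w)⁻¹) * (π w)⁻¹ = u.1 := by
        rw [show π w * (π w * u.1 * (π w)⁻¹) * (π w)⁻¹ = (π w * π w) * u.1 * (π w * π w)⁻¹ by group,
          hCcomm _ hw2 _ (hTC u.2), mul_inv_cancel_right]
      have h2 : π w * c u * (π w)⁻¹ = c u := by
        rw [hc]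
        rw [show π w * (u.1 * (π w * u.1 * (π w)⁻¹)) * (π w)⁻¹ =
          (π w * u.1 * (π w)⁻¹) * (π w * (π w * u.1 * (π w)⁻¹) * (π w)⁻¹) by group, h1,
          hCcomm _ (hEC (hconjT _ u.2)) _ (hTC u.2)]
      calc c u * π w = π w * c u * (π w)⁻¹ * π w := by rw [h2]
        _ = π w * c u := by group
    have hinj : Function.Injective fun u => (⟨c u, hmem u⟩ :
        ↥(img A N ⊓ centralizer ({π w} : Set (↥NA ⧸ A.subgroupOf NA)) : Subgroup _)) := by
      intro u v huv
      have h1 : u.1 * (π w * u.1 * (π w)⁻¹) = v.1 * (π w * v.1 * (π w)⁻¹) := congrArg Subtype.val huv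
      have h2 : v.1⁻¹ * u.1 = (π w * v.1 * (π w)⁻¹) * (π w * u.1 * (π w)⁻¹)⁻¹ := by
        rw [eq_mul_inv_iff_mul_eq, mul_assoc, h1, inv_mul_cancel_left]
      have h3 := hEinT (v.1⁻¹ * u.1) (h2 ▸ mul_mem (hconjT _ v.2) (inv_mem (hconjT _ u.2)))
        (mul_mem (inv_mem v.2) u.2)
      exact Subtype.ext (inv_mul_eq_one.1 h3).symm
    rw [← hT4]
    refine (Nat.card_congr (Equiv.ofBijective _ ⟨hinj, ?_⟩)).symm
    rintro ⟨z, hzN, hzc⟩
    obtain ⟨x, hx, rfl⟩ := exists_of_mem_img hzN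
    obtain ⟨e, he, t, ht, het⟩ := hE.decomp h hM h16 hne hx
    set e' : ↥NA := ⟨e, hNA (hE.le he)⟩
    set t' : ↥NA := ⟨t, hNA (hTN ht)⟩
    have hxe : π x = π e' * π t' := by
      rw [← map_mul]
      exact congrArg π (Subtype.ext het.symm)
    refine ⟨⟨π t', ⟨t', mem_subgroupOf.2 ht, rfl⟩⟩, Subtype.ext ?_⟩
    show π t' * (π w * π t' * (π w)⁻¹) = π x
    have hteE : π w * π t' * (π w)⁻¹ ∈ img A E := hconjT _ ⟨t', mem_subgroupOf.2 ht, rfl⟩
    have heE : π e' ∈ img A E := ⟨e', mem_subgroupOf.2 he, rfl⟩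
    have heT : π w * π e' * (π w)⁻¹ ∈ img A T :=
      ⟨w * e' * w⁻¹, mem_subgroupOf.2 (htoT e he), by rw [map_mul, map_mul, map_inv]⟩
    have hcw : π w * π x * (π w)⁻¹ = π x := by
      rw [← mem_centralizer_singleton_iff.1 hzc, mul_inv_cancel_right]
    -- compare the two decompositions
    have h4 : (π w * π e' * (π w)⁻¹) * (π w * π t' * (π w)⁻¹) = π e' * π t' := by
      rw [← hxe, ← hcw, hxe]
      group
    have h5 : (π e')⁻¹ * (π w * π t' * (π w)⁻¹) = π t' * (π w * π e' * (π w)⁻¹)⁻¹ := by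
      rw [eq_mul_inv_iff_mul_eq, mul_assoc,
        hCcomm _ (hEC hteE) _ (hTC heT), h4, inv_mul_cancel_left]
    have h6 : π w * π t' * (π w)⁻¹ = π e' := by
      have h7 := hEinT _ (mul_mem (inv_mem heE) hteE)
        (h5 ▸ mul_mem ⟨t', mem_subgroupOf.2 ht, rfl⟩ (inv_mem heT))
      exact (inv_mul_eq_one.1 h7).symm
    rw [h6, hxe]
    exact hCcomm _ (hTC ⟨t', mem_subgroupOf.2 ht, rfl⟩) _ (hEC heE)
  -- `S = W₁`
  have hSW : (S : Subgroup G) = W₁ := by
    refine le_antisymm ?_ inf_le_left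
    by_contra hno
    haveI : Group.IsNilpotent ↥(S : Subgroup G) := S.isPGroup'.isNilpotent
    have hlt : W₁.subgroupOf (S : Subgroup G) < ⊤ :=
      lt_top_iff_ne_top.2 fun e => hno (subgroupOf_eq_top.1 e)
    obtain ⟨m, hm, hmW⟩ := SetLike.exists_of_lt (normalizerCondition_of_isNilpotent _ hlt)
    refine hmW ⟨m.2, norm_mem _ fun y hy => ?_⟩
    have hmy : (m : G) * y * (m : G)⁻¹ ∈ W₁ :=
      mem_subgroupOf.1 ((mem_normalizer_iff.1 hm ⟨y, hy.1⟩).1 (mem_subgroupOf.2 (hNW hy)))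
    by_contra hout
    set N' := N.map (MulAut.conj (m : G)).toMonoidHom with hN'
    have hN'W : N' ≤ W₁ := by
      rintro _ ⟨z, hz, rfl⟩
      exact mem_subgroupOf.1 ((mem_normalizer_iff.1 hm ⟨z, hz.1⟩).1 (mem_subgroupOf.2 (hNW hz)))
    have hAN' : A ≤ N' := fun a ha => ⟨a, hAN ha, by
      simp only [MulEquiv.coe_toMonoidHom, MulAut.conj_apply]
      rw [← mem_centralizer_iff.1 (h.central m.2) a ha, mul_inv_cancel_right]⟩
    set w : ↥NA := ⟨(m : G) * y * (m : G)⁻¹, hW₁A hmy⟩ with hw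
    have h4 := hfix w hmy hout
    have hK : img A (N ⊓ N') ≤ img A N ⊓ centralizer ({π w} : Set (↥NA ⧸ A.subgroupOf NA)) := by
      intro z hz
      obtain ⟨x, hx, rfl⟩ := exists_of_mem_img hz
      refine ⟨⟨x, hx.1, rfl⟩, mem_centralizer_singleton_iff.2 ?_⟩
      obtain ⟨x₀, hx₀, hx₀e⟩ := hx.2
      rw [← map_mul, ← map_mul]
      refine QuotientGroup.eq.2 (mem_subgroupOf.2 ?_)
      have h5 := hM.comm _ (inv_mem hy) _ (inv_mem hx₀)
      have h6 : ((x * w)⁻¹ * (w * x) : ↥NA) =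
          (⟨(m : G) * (y⁻¹ * x₀⁻¹ * y * x₀) * (m : G)⁻¹, by
            refine hSA ?_
            exact mul_mem (mul_mem m.2 (mul_mem (mul_mem (mul_mem (inv_mem hy.1) (inv_mem hx₀.1)) hy.1) hx₀.1))
              (inv_mem m.2)⟩ : ↥NA) := by
        apply Subtype.ext
        show ((x : G) * ((m : G) * y * (m : G)⁻¹))⁻¹ * ((m : G) * y * (m : G)⁻¹ * x) = _
        rw [← hx₀e]
        simp only [MulEquiv.coe_toMonoidHom, MulAut.conj_apply]
        group
      rw [h6]
      have h7 : y⁻¹ * x₀⁻¹ * y * x₀ ∈ A := by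
        simpa [commutatorElement_def, mul_assoc] using h5
      show (m : G) * (y⁻¹ * x₀⁻¹ * y * x₀) * (m : G)⁻¹ ∈ A
      rwa [← mem_centralizer_iff.1 (h.central m.2) _ h7, mul_inv_cancel_right]
    have h5 := card_le_of_le hK
    rw [h4] at h5
    have h6 := card_img (le_inf hAN hAN') (inf_le_left.trans hNA)
    rw [h.four] at h6
    have h7 := PLocal.card_sup_mul_card_inf (H := N) (K := N') (hN'W.trans inf_le_right)
    have h8 : Nat.card ↥(N ⊔ N' : Subgroup G) ≤ 128 := hW₁card ▸ card_le_of_le (sup_le hNW hN'W)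
    rw [hN', card_map_of_injective (MulAut.conj (m : G)).injective, hNcard, ← hN'] at h7
    have h9 : Nat.card ↥(N ⊓ N' : Subgroup G) ≤ 16 := by rw [← h6]; omega
    have h10 := Nat.mul_le_mul h8 h9
    omega
  -- the transfer
  let W := (S.subtype hSA).mapSurjective (f := π) (QuotientGroup.mk'_surjective _)
  have hW : (W : Subgroup (↥NA ⧸ A.subgroupOf NA)) = img A W₁ := by
    show ((S : Subgroup G).subgroupOf NA).map π = _
    rw [hSW]
  have hC : Cfsg.IsElementaryAbelian 2 (img A N) :=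
    ⟨⟨⟨fun u v => Subtype.ext (hCcomm u.1 u.2 v.1 v.2)⟩⟩, fun z hz => by rw [pow_two]; exact hCsq z hz⟩
  obtain ⟨M, hMi⟩ := exists_index_two_of_swap W (img A N) (hW ▸ map_mono fun x hx => hNW hx) (by
    rw [hW]
    have h1 : Nat.card ↥(img A W₁) * Nat.card ↥A = Nat.card ↥W₁ := card_img (hAN.trans hNW) hW₁A
    rw [h.four, hW₁card] at h1
    exact Nat.eq_of_mul_eq_mul_right (by norm_num : 0 < 4) (h1.trans (by norm_num))) hC16 hC (fun s hs hsC => by
    rw [hW] at hs
    obtain ⟨w, hw, rfl⟩ := exists_of_mem_img hs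
    exact hfix w hw fun hh => hsC ⟨w, hh, rfl⟩)
  exact h.ctx.no_index_two (M.comap π)
    (by rw [index_comap_of_surjective M (QuotientGroup.mk'_surjective _)]; exact hMi)

theorem card_sylow (h : CornerHyp G S A) (hM : MaxData S A T) (h16 : Nat.card ↥T = 16) :
    Nat.card ↥(S : Subgroup G) = 64 := by
  have h1 := hM.card_norm
  rwa [inf_of_le_left (sylow_le_normalizer h hM h16), h16] at h1

theorem sq_mem (h : CornerHyp G S A) (hM : MaxData S A T) (h16 : Nat.card ↥T = 16) {x : G}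
    (hx : x ∈ (S : Subgroup G)) : x * x ∈ A :=
  hM.sq x ⟨hx, sylow_le_normalizer h hM h16 hx⟩

end Cfsg.Agent.Goldschmidt.General.Corner.Sixteen
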